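import Mathlib

/-!
Weakly contractible objects: exactness of sections, exact products, replete topoi.
-/

universe w v u

set_option autoImplicit false
set_option maxHeartbeats 400000

open CategoryTheory CategoryTheory.Limits Opposite

namespace Groth.Agent.WeakContr9

variable {C : Type u} [Category.{v} C] {J : GrothendieckTopology C}

/-- every epimorphism of sheaves of sets is surjective on sections over `U` -/
abbrev WC (J : GrothendieckTopology C) (U : C) : Prop :=
  ∀ (P Q : Sheaf J (Type w)) (ψ : P ⟶ Q), Epi ψ → Function.Surjective (ψ.hom.app (op U))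

variable (J) in
/-- sections over `U` -/
abbrev ev (U : C) : Sheaf J AddCommGrpCat.{w} ⥤ AddCommGrpCat.{w} :=
  sheafToPresheaf J AddCommGrpCat.{w} ⋙ (evaluation Cᵒᵖ AddCommGrpCat.{w}).obj (op U)

instance hasSheafComposeForget : J.HasSheafCompose (forget AddCommGrpCat.{w}) :=
  ⟨fun P hP => (isSheaf_iff_isSheaf_of_type _ _).2 (Presieve.isSheaf_iso J
    (Functor.isoWhiskerLeft P AddCommGrpCat.coyonedaObjIsoForget) (hP (AddCommGrpCat.of (ULift.{w} ℤ))))⟩

variable [HasSheafify J AddCommGrpCat.{w}] [J.WEqualsLocallyBijective AddCommGrpCat.{w}]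

theorem ev_lex (U : C) : PreservesFiniteLimits (ev.{w} J U) := by
  haveI : PreservesLimitsOfSize.{0, 0} (sheafToPresheaf J AddCommGrpCat.{w}) :=
    (sheafificationAdjunction J AddCommGrpCat.{w}).rightAdjoint_preservesLimits
  haveI : PreservesFiniteLimits (sheafToPresheaf J AddCommGrpCat.{w}) :=
    PreservesLimitsOfSize.preservesFiniteLimits _
  exact comp_preservesFiniteLimits _ _

theorem surjective_ab {U : C} (hU : WC.{w} J U) {F G : Sheaf J AddCommGrpCat.{w}} (φ : F ⟶ G) [Epi φ] :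
    Function.Surjective (φ.hom.app (op U)) := by
  haveI := (Sheaf.isLocallySurjective_iff_epi' (A := AddCommGrpCat.{w}) φ).2 inferInstance
  exact hU _ _ ((sheafCompose J (forget AddCommGrpCat.{w})).map φ) inferInstance

theorem ev_exact {U : C} (hU : WC.{w} J U) : (ev.{w} J U).PreservesHomology ∧ PreservesFiniteColimits (ev.{w} J U) := by
  haveI : PreservesFiniteLimits (ev.{w} J U) := ev_lex.{w} U
  haveI : (ev.{w} J U).Additive := Functor.additive_of_preserves_binary_products _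
  haveI : (ev.{w} J U).PreservesEpimorphisms := ⟨fun φ _ => (AddCommGrpCat.epi_iff_surjective _).2 (surjective_ab.{w} hU φ)⟩
  haveI := Functor.preservesHomology_of_preservesEpis_and_kernels (ev.{w} J U)
  exact ⟨inferInstance, Functor.preservesFiniteColimits_of_preservesHomology _⟩

variable {B : C → Prop}

theorem epi_of_surjective
    (hcov : ∀ V : C, ∃ S : Sieve V, S ∈ J V ∧ ∀ ⦃W : C⦄ (f : W ⟶ V), S.arrows f →
      ∃ (U : C) (g : W ⟶ U) (h : U ⟶ V), B U ∧ g ≫ h = f)
    {F G : Sheaf J AddCommGrpCat.{w}} (φ : F ⟶ G) (hs : ∀ U, B U → Function.Surjective (φ.hom.app (op U))) :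
    Epi φ := by
  refine (Sheaf.isLocallySurjective_iff_epi' (A := AddCommGrpCat.{w}) φ).1 ⟨fun {V} y => ?_⟩
  obtain ⟨S, hS, hS'⟩ := hcov V
  refine J.superset_covering (fun W f hf => ?_) hS
  obtain ⟨U, g, h, hB, rfl⟩ := hS' f hf
  obtain ⟨x, hx⟩ := hs U hB (G.obj.map h.op y)
  refine (Presheaf.imageSieve φ.hom y).downward_closed ?_ g
  exact ⟨x, hx⟩

theorem exact_iff
    (hB : ∀ U : C, B U → WC.{w} J U)
    (hcov : ∀ V : C, ∃ S : Sieve V, S ∈ J V ∧ ∀ ⦃W : C⦄ (f : W ⟶ V), S.arrows f →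
      ∃ (U : C) (g : W ⟶ U) (h : U ⟶ V), B U ∧ g ≫ h = f)
    (S : ShortComplex (Sheaf J AddCommGrpCat.{w})) :
    S.Exact ↔ ∀ U : C, B U → (S.map (ev.{w} J U)).Exact := by
  refine ⟨fun h U hU => ?_, fun h => ?_⟩
  · haveI := (ev_exact (hB U hU)).1
    exact h.map _
  · rw [ShortComplex.exact_iff_epi_toCycles]
    refine epi_of_surjective hcov _ fun U hU z => ?_
    haveI : PreservesFiniteLimits (ev.{w} J U) := ev_lex.{w} U
    haveI : Mono ((ev.{w} J U).map S.iCycles) := inferInstance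
    let y := (ev.{w} J U).map S.iCycles z
    have hy : (ev.{w} J U).map S.g y = 0 := by
      refine Eq.trans (ConcreteCategory.congr_hom ((ev.{w} J U).map_comp S.iCycles S.g) z).symm ?_
      rw [S.iCycles_g]
      rfl
    obtain ⟨x, hx⟩ := (ShortComplex.ab_exact_iff _).1 (h U hU) y hy
    refine ⟨x, (AddCommGrpCat.mono_iff_injective ((ev.{w} J U).map S.iCycles)).1 inferInstance ?_⟩
    refine Eq.trans (ConcreteCategory.congr_hom ((ev.{w} J U).map_comp S.toCycles S.iCycles) x).symm ?_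
    rw [S.toCycles_i]
    exact hx

theorem exists_section {I : Type w} {F G : I → AddCommGrpCat.{w}} (φ : ∀ i, F i ⟶ G i)
    (hs : ∀ i, Function.Surjective (φ i)) : Function.Surjective (Limits.Pi.map φ) := by
  intro y
  choose a ha using fun i => hs i (Pi.π G i y)
  obtain ⟨z, hz, -⟩ := (Types.isLimit_iff _).1
    ⟨isLimitOfPreserves (forget AddCommGrpCat.{w}) (productIsProduct F)⟩
    (fun i => a i.as) (by rintro ⟨i⟩ ⟨i'⟩ ⟨⟨h⟩⟩; cases h; rfl)
  refine ⟨z, Concrete.isLimit_ext _ (productIsProduct G) _ _ fun ⟨i⟩ => ?_⟩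
  exact (ConcreteCategory.congr_hom (Limits.Pi.map_π φ i) z).trans ((congrArg (φ i) (hz ⟨i⟩)).trans (ha i))

theorem exact_products [HasLimitsOfSize.{w, w} (Sheaf J AddCommGrpCat.{w})]
    (hB : ∀ U : C, B U → WC.{w} J U)
    (hcov : ∀ V : C, ∃ S : Sieve V, S ∈ J V ∧ ∀ ⦃W : C⦄ (f : W ⟶ V), S.arrows f →
      ∃ (U : C) (g : W ⟶ U) (h : U ⟶ V), B U ∧ g ≫ h = f)
    (I : Type w) : HasExactLimitsOfShape (Discrete I) (Sheaf J AddCommGrpCat.{w}) := by
  let L : (Discrete I ⥤ Sheaf J AddCommGrpCat.{w}) ⥤ Sheaf J AddCommGrpCat.{w} := lim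
  haveI : PreservesFiniteLimits L := inferInstance
  haveI : L.Additive := Functor.additive_of_preserves_binary_products _
  haveI : L.PreservesEpimorphisms := ⟨fun {F G} φ _ => by
    refine epi_of_surjective hcov _ fun U hU y => ?_
    let hF := isLimitOfPreserves (ev.{w} J U) (limit.isLimit F)
    let hG := isLimitOfPreserves (ev.{w} J U) (limit.isLimit G)
    choose a ha using fun i : Discrete I =>
      surjective_ab (hB U hU) (φ.app i) ((ev.{w} J U).map (limit.π G i) y)
    obtain ⟨z, hz, -⟩ := (Types.isLimit_iff _).1 ⟨isLimitOfPreserves (forget AddCommGrpCat.{w}) hF⟩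
      a (by rintro ⟨i⟩ ⟨i'⟩ ⟨⟨h⟩⟩; cases h; exact ConcreteCategory.congr_hom ((F ⋙ ev J U).map_id ⟨i⟩) (a ⟨i⟩))
    refine ⟨z, Concrete.isLimit_ext _ hG _ _ fun i => ?_⟩
    refine Eq.trans (ConcreteCategory.congr_hom ((ev.{w} J U).map_comp (L.map φ) (limit.π G i)) z).symm ?_
    rw [show L.map φ ≫ limit.π G i = limit.π F i ≫ φ.app i from limMap_π _ _, Functor.map_comp]
    exact (congrArg ((ev.{w} J U).map (φ.app i)) (hz i)).trans (ha i)⟩
  haveI := Functor.preservesHomology_of_preservesEpis_and_kernels L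
  exact ⟨Functor.preservesFiniteColimits_of_preservesHomology L⟩

theorem exists_seq {G : ℕᵒᵖ ⥤ Type w} (n : ℕ)
    (hs : ∀ k, Function.Surjective (G.map (homOfLE (Nat.le_succ k)).op)) (y : G.obj (op n)) :
    ∃ s : ∀ j, G.obj j, s ∈ G.sections ∧ s (op n) = y := by
  let g : ∀ k : ℕ, G.obj (op (n + k)) := fun k => Nat.rec (motive := fun k => G.obj (op (n + k))) y
    (fun m x => (hs (n + m) x).choose) k
  have hg : ∀ k, G.map (homOfLE (Nat.le_succ (n + k))).op (g (k + 1)) = g k := fun k =>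
    (hs (n + k) (g k)).choose_spec
  have hab : ∀ a b (h : a ≤ b), G.map (homOfLE (Nat.add_le_add_left h n)).op (g b) = g a := by
    intro a b h
    induction b, h using Nat.le_induction with
    | base => exact FunctorToTypes.map_id_apply G _
    | succ b hab ih =>
      refine Eq.trans ?_ ih
      conv_rhs => rw [← hg b]
      rw [← FunctorToTypes.map_comp_apply]
      rfl
  refine ⟨fun j => G.map (homOfLE (Nat.le_add_left j.unop n)).op (g j.unop), ?_, ?_⟩
  · intro j j' h
    obtain ⟨j⟩ := j; obtain ⟨j'⟩ := j'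
    have hle : j' ≤ j := leOfHom h.unop
    show G.map h (G.map _ (g j)) = G.map _ (g j')
    rw [← hab j' j hle, ← FunctorToTypes.map_comp_apply, ← FunctorToTypes.map_comp_apply]
    exact congrArg (fun k => G.map k (g j)) (Quiver.Hom.unop_inj (Subsingleton.elim _ _))
  · show G.map _ (g n) = y
    refine Eq.trans ?_ (hab 0 n (Nat.zero_le n))
    exact congrArg (fun k => G.map k (g n)) (Quiver.Hom.unop_inj (Subsingleton.elim _ _))

omit [HasSheafify J AddCommGrpCat.{w}] [J.WEqualsLocallyBijective AddCommGrpCat.{w}] in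
theorem replete
    (hwc : ∀ V : C, ∃ S : Sieve V, S ∈ J V ∧ ∀ ⦃W : C⦄ (f : W ⟶ V), S.arrows f →
      ∃ (U : C) (g : W ⟶ U) (h : U ⟶ V), WC.{w} J U ∧ g ≫ h = f)
    (F : ℕᵒᵖ ⥤ Sheaf J (Type w))
    (hF : ∀ n : ℕ, Epi (F.map (homOfLE (Nat.le_succ n)).op))
    (c : Cone F) (hc : IsLimit c) (n : ℕ) :
    Epi (c.π.app (op n)) := by
  haveI : Sheaf.IsLocallySurjective (c.π.app (op n)) := ⟨fun {V} y => by
    obtain ⟨S, hS, hS'⟩ := hwc V
    refine J.superset_covering (fun W f hf => ?_) hS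
    obtain ⟨U, g, h, hU, rfl⟩ := hS' f hf
    let E := sheafToPresheaf J (Type w) ⋙ (evaluation Cᵒᵖ (Type w)).obj (op U)
    let y₀ : (F ⋙ E).obj (op n) := (F.obj (op n)).obj.map h.op y
    obtain ⟨s, hs, hsn⟩ := exists_seq (G := F ⋙ E) n (fun k => hU _ _ _ (hF k)) y₀
    obtain ⟨z, hz, -⟩ := (Types.isLimit_iff _).1 ⟨isLimitOfPreserves E hc⟩ s hs
    refine (Presheaf.imageSieve (c.π.app (op n)).hom y).downward_closed ?_ g
    exact ⟨z, (hz (op n)).trans hsn⟩⟩
  infer_instance

end Groth.Agent.WeakContr9
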